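import Groth.Agent.L22.DimOneAmple.Poles
import Mathlib.AlgebraicGeometry.Morphisms.Affine
import Mathlib.AlgebraicGeometry.Limits

/-!
Affine opens of a separated Noetherian scheme of dimension at most one containing finitely many points.
-/

set_option autoImplicit false
set_option linter.style.haveILetI false
universe u

open CategoryTheory AlgebraicGeometry TopologicalSpace Opposite

noncomputable section

namespace Groth.L22.DimOneAmple

open Groth.L21.Extend (rO rO_rO exists_glue)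
open Groth.L22.PicGlue Groth.L22.FinAff

variable {X : Scheme.{u}} [IsNoetherian X]

theorem inf_affine_eq (W N : X.Opens) : W.ι ''ᵁ (W.ι ⁻¹ᵁ N) = W ⊓ N := by
  rw [Scheme.Hom.image_preimage_eq_opensRange_inf, Scheme.Opens.opensRange_ι]

theorem finite_isGen : {η : X | IsGen η}.Finite :=
  Set.Finite.of_finite_image
    ((TopologicalSpace.NoetherianSpace.finite_irreducibleComponents (α := X)).subset
      (Set.image_subset_iff.2 fun η hη => closure_mem_of_isGen hη))
    fun _ _ _ _ h => closure_isGen_inj h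

theorem exists_punct (hdim : topologicalKrullDim X ≤ 1) (U : X.Opens) (hgen : ∀ η : X, IsGen η → η ∈ U)
    {z : X} (hz : z ∉ U) (O : X.Opens) (hzO : z ∈ O) :
    ∃ P : Punct U z, P.V ≤ O ∧ ∀ y ∈ P.V, y ∉ U → y = z := by
  obtain ⟨hfin, hcl⟩ := finite_compl hdim U hgen
  have hB : IsClosed (⋃ y ∈ (U : Set X)ᶜ \ {z}, ({y} : Set X)) :=
    (hfin.subset Set.sdiff_subset).isClosed_biUnion fun y hy => hcl y hy.1
  obtain ⟨V, f, hV, hzV, hVO, hf⟩ := exists_puncture U z hz (O ⊓ ⟨_, hB.isOpen_compl⟩)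
    ⟨hzO, fun h => by
      obtain ⟨y, hy, rfl⟩ := Set.mem_iUnion₂.1 h
      exact hy.2 rfl⟩
    (fun y hy hyU => by
      by_contra hne
      exact hy.2 (Set.mem_iUnion₂.2 ⟨y, ⟨hyU, hne⟩, rfl⟩))
    ((ringKrullDim_stalk_le z).trans hdim)
  refine ⟨⟨V, hV, hzV, hz, f, hf⟩, hVO.trans inf_le_left, fun y hy hyU => ?_⟩
  by_contra hne
  exact (hVO hy).2 (Set.mem_iUnion₂.2 ⟨y, ⟨hyU, hne⟩, rfl⟩)

theorem isAffineOpen_inf (hdim : topologicalKrullDim X ≤ 1) {W N : X.Opens}
    (hgen : ∀ η : X, IsGen η → η ∈ W) (hN : IsAffineOpen N) : IsAffineOpen (W ⊓ N) := by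
  haveI : IsAffineHom W.ι := by
    refine isAffineHom_of_forall_exists_isAffineOpen _ fun y => ?_
    by_cases hy : y ∈ W
    · obtain ⟨O, hO, hyO, hOW⟩ := TopologicalSpace.Opens.isBasis_iff_nbhd.1 X.isBasis_affineOpens hy
      refine ⟨O, hyO, hO, ?_⟩
      rw [← Scheme.Hom.isAffineOpen_iff_of_isOpenImmersion W.ι, inf_affine_eq, inf_eq_right.2 hOW]
      exact hO
    · obtain ⟨P, -, -⟩ := exists_punct hdim W hgen hy ⊤ trivial
      refine ⟨P.V, P.mem, P.isAffine, ?_⟩
      rw [← Scheme.Hom.isAffineOpen_iff_of_isOpenImmersion W.ι, inf_affine_eq, inf_comm, ← P.basicOpen_eq]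
      exact P.isAffine.basicOpen P.f
  rw [← inf_affine_eq, Scheme.Hom.isAffineOpen_iff_of_isOpenImmersion W.ι]
  exact hN.preimage W.ι

theorem exists_affine_gen {V : X.Opens} (hV : IsAffineOpen V) :
    ∃ N : X.Opens, IsAffineOpen N ∧ V ≤ N ∧ ∀ η : X, IsGen η → η ∈ N := by
  let G : Set X := {η | IsGen η ∧ η ∉ V}
  have hG : G.Finite := finite_isGen.subset fun η hη => hη.1
  have h : ∀ η : G, ∃ W : X.Opens, IsAffineOpen W ∧ η.1 ∈ W ∧ ∀ y ∈ W, ∀ η' : X, IsGen η' → η' ⤳ y → η' = η := by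
    intro η
    have hB : IsClosed (⋃ η' ∈ {η' : X | IsGen η'} \ {η.1}, closure ({η'} : Set X)) :=
      (finite_isGen.subset Set.sdiff_subset).isClosed_biUnion fun _ _ => isClosed_closure
    obtain ⟨W, hW, hηW, hWB⟩ := TopologicalSpace.Opens.isBasis_iff_nbhd.1 X.isBasis_affineOpens
      (U := ⟨_, hB.isOpen_compl⟩) (x := η.1) fun h => by
        obtain ⟨η', hη', hc⟩ := Set.mem_iUnion₂.1 h
        exact hη'.2 (η.2.1 η' (specializes_iff_mem_closure.2 hc))
    refine ⟨W, hW, hηW, fun y hy η' hη' hs => ?_⟩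
    by_contra hne
    exact hWB hy (Set.mem_iUnion₂.2 ⟨η', ⟨hη', hne⟩, specializes_iff_mem_closure.1 hs⟩)
  choose W hW hηW hWu using h
  haveI := hG.to_subtype
  have hWd : Pairwise (Function.onFun Disjoint W) := fun η η' hne => by
    show Disjoint (W η) (W η')
    rw [← Opens.coe_disjoint, Set.disjoint_left]
    intro y hy hy'
    obtain ⟨ξ, hξ, hξy⟩ := exists_isGen_specializes y
    exact hne (Subtype.ext ((hWu η y hy ξ hξ hξy).symm.trans (hWu η' y hy' ξ hξ hξy)))
  have hVd : Disjoint V (iSup W) := by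
    rw [← Opens.coe_disjoint, Set.disjoint_left]
    intro y hy hy'
    obtain ⟨η, hη⟩ := Opens.mem_iSup.1 hy'
    obtain ⟨ξ, hξ, hξy⟩ := exists_isGen_specializes y
    exact η.2.2 (hWu η y hη ξ hξ hξy ▸ hξy.mem_open V.isOpen hy)
  refine ⟨V ⊔ iSup W, hV.sup_of_disjoint (.iSup_of_disjoint hW hWd) hVd, le_sup_left, fun η hη => ?_⟩
  by_cases hηV : η ∈ V
  · exact Or.inl hηV
  · exact Or.inr (Opens.mem_iSup.2 ⟨⟨η, hη, hηV⟩, hηW _⟩)

theorem germ_isUnit_of_mul {W : X.Opens} {a b : Γ(X, W)} (h : a * b = 1) {y : X} (hy : y ∈ W) :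
    y ∈ X.basicOpen a := by
  rw [X.basicOpen_of_isUnit (IsUnit.of_mul_eq_one b h)]
  exact hy

/-- One more point can be added to an affine open containing all generic points. -/
theorem exists_affine_insert [X.IsSeparated] (hdim : topologicalKrullDim X ≤ 1) {U : X.Opens}
    (hU : IsAffineOpen U) (hgen : ∀ η : X, IsGen η → η ∈ U) (F : Finset X) (hFU : ∀ y ∈ F, y ∈ U)
    (hF : ∀ y ∈ F, IsClosed ({y} : Set X)) {z : X} (hz : z ∉ U) :
    ∃ U' : X.Opens, IsAffineOpen U' ∧ (∀ η : X, IsGen η → η ∈ U') ∧ (∀ y ∈ F, y ∈ U') ∧ z ∈ U' := by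
  classical
  obtain ⟨P, -, hPz⟩ := exists_punct hdim U hgen hz ⊤ trivial
  obtain ⟨N, hN, hVN, hNgen⟩ := exists_affine_gen P.isAffine
  obtain ⟨hfin, hcl⟩ := finite_compl hdim N hNgen
  have hGen : {η : X | IsGen η ∧ ¬ η ⤳ z}.Finite := finite_isGen.subset fun η hη => hη.1
  let Q : Finset X := F ∪ hGen.toFinset ∪ hfin.toFinset.filter (· ∈ U)
  have hQU : ∀ q ∈ Q, q ∈ U := fun q hq => by
    simp only [Q, Finset.mem_union, Set.Finite.mem_toFinset, Finset.mem_filter] at hq
    rcases hq with (hq | hq) | hq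
    · exact hFU q hq
    · exact hgen q hq.1
    · exact hq.2
  have hQz : ∀ q ∈ Q, ∀ z' ∈ ({z} : Finset X), ¬ q ⤳ z' := fun q hq z' hz' hs => by
    rw [Finset.mem_singleton] at hz'
    subst hz'
    have hne : q ≠ z' := fun he => hz (he ▸ hQU q hq)
    have hclosed : IsClosed ({q} : Set X) → False := fun hc => by
      have := specializes_iff_mem_closure.1 hs
      rw [hc.closure_eq, Set.mem_singleton_iff] at this
      exact hne this.symm
    simp only [Q, Finset.mem_union, Set.Finite.mem_toFinset, Finset.mem_filter] at hq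
    rcases hq with (hq | hq) | hq
    · exact hclosed (hF q hq)
    · exact hq.2 hs
    · exact hclosed (hcl q hq.1)
  obtain ⟨g, hgQ, hgz⟩ := exists_poles hdim hU {z}
    (fun z' => (Finset.mem_singleton.1 z'.2).symm ▸ P) Q hQU hQz 1 (Or.inr rfl)
  obtain ⟨M₀, φ₀, hzM₀, -, hzφ₀, hφ₀⟩ := hgz ⟨z, Finset.mem_singleton_self z⟩
  set M := M₀ ⊓ P.V
  let φ : Γ(X, M) := rO X inf_le_left φ₀
  have hzφ : z ∉ X.basicOpen φ := fun h => by
    rw [Scheme.basicOpen_res] at h
    exact hzφ₀ h.2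
  have hMU : M ⊓ U ≤ X.basicOpen g := fun y hy => by
    have h := germ_isUnit_of_mul ((mul_comm _ _).trans hφ₀) (y := y) ⟨hy.1.1, hy.2⟩
    rw [Scheme.basicOpen_res] at h
    exact h.2
  have hQg : ∀ q ∈ Q, q ∈ X.basicOpen g := fun q hq => (hgQ q hq).1.2 rfl
  have hg : ∀ η : X, IsGen η → η ∈ X.basicOpen g := fun η hη => by
    by_cases hs : η ⤳ z
    · exact hMU ⟨hs.mem_open M.isOpen ⟨hzM₀, P.mem⟩, hgen η hη⟩
    · exact hQg η (Finset.mem_union_left _ (Finset.mem_union_right _ (hGen.mem_toFinset.2 ⟨hη, hs⟩)))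
  -- the glued function
  obtain ⟨v, hv⟩ : ∃ v : Γ(X, X.basicOpen g), v * rO X (X.basicOpen_le g) g = 1 :=
    (RingedSpace.isUnit_res_basicOpen _ g).exists_left_inv
  set W := X.basicOpen g ⊔ M
  obtain ⟨Φ, hΦ⟩ := exists_glue (Coh.structureModule X)
    (fun o : ULift.{u} Bool => cond o.down (X.basicOpen g) M) W
    (fun o => by rcases o with ⟨_ | _⟩ <;> first | exact le_sup_left | exact le_sup_right)
    (fun y hy => hy.elim (fun h => ⟨⟨true⟩, h⟩) fun h => ⟨⟨false⟩, h⟩)
    (fun o => match o with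
      | ⟨true⟩ => v
      | ⟨false⟩ => φ)
    (by
      have key : rO X (inf_le_left : X.basicOpen g ⊓ M ≤ _) v = rO X inf_le_right φ := by
        have h1 := congrArg (rO X (inf_le_left : X.basicOpen g ⊓ M ≤ _)) hv
        have h2 := congrArg (rO X (le_inf (inf_le_right.trans inf_le_left)
          (inf_le_left.trans (X.basicOpen_le g)) : X.basicOpen g ⊓ M ≤ M₀ ⊓ U)) hφ₀
        simp only [Groth.L22.PicGlue.rO_mul, rO_rO, Groth.L22.PicGlue.rO_one] at h1 h2
        simp only [φ, rO_rO]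
        exact left_inv_eq_right_inv h1 ((mul_comm _ _).trans h2)
      rintro ⟨_ | _⟩ ⟨_ | _⟩
      · rfl
      · show rO X inf_le_left φ = rO X inf_le_right v
        have := congrArg (rO X (le_inf inf_le_right inf_le_left : M ⊓ X.basicOpen g ≤ X.basicOpen g ⊓ M)) key
        simp only [rO_rO] at this
        exact this.symm
      · exact key
      · rfl)
  let Φ : Γ(X, W) := Φ
  have hΦv : rO X (le_sup_left : X.basicOpen g ≤ W) Φ = v := hΦ ⟨true⟩
  have hΦφ : rO X (le_sup_right : M ≤ W) Φ = φ := hΦ ⟨false⟩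
  have hDΦ : X.basicOpen Φ = X.basicOpen g := by
    refine le_antisymm (fun y hy => ?_) fun y hy => ?_
    · rcases X.basicOpen_le Φ hy with h | h
      · exact h
      · by_cases hyU : y ∈ U
        · exact hMU ⟨h, hyU⟩
        · obtain rfl := hPz y h.2 hyU
          have : y ∈ X.basicOpen (rO X (le_sup_right : M ≤ W) Φ) := by
            rw [Scheme.basicOpen_res]; exact ⟨h, hy⟩
          rw [hΦφ] at this
          exact absurd this hzφ
    · have h := germ_isUnit_of_mul (a := rO X (le_sup_left : X.basicOpen g ≤ W) Φ)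
        (b := rO X (X.basicOpen_le g) g) (by rw [hΦv]; exact hv) hy
      rw [Scheme.basicOpen_res] at h
      exact h.2
  have hle : X.basicOpen (1 - Φ) ≤ N := fun y hy => by
    by_contra hyN
    have hyW : y ∈ X.basicOpen g := by
      rcases X.basicOpen_le _ hy with h | h
      · exact h
      · exact absurd (hVN h.2) hyN
    have hyQ : y ∈ Q := Finset.mem_union_right _
      (Finset.mem_filter.2 ⟨hfin.mem_toFinset.2 hyN, X.basicOpen_le g hyW⟩)
    refine (hgQ y hyQ).2 ?_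
    have h1 : y ∈ X.basicOpen (rO X (le_sup_left : X.basicOpen g ≤ W) (1 - Φ)) := by
      rw [Scheme.basicOpen_res]; exact ⟨hyW, hy⟩
    have h2 : rO X (X.basicOpen_le g) (g - 1) =
        rO X (le_sup_left : X.basicOpen g ≤ W) (1 - Φ) * rO X (X.basicOpen_le g) g := by
      show X.presheaf.map _ (g - 1) = _
      rw [show rO X (le_sup_left : X.basicOpen g ≤ W) (1 - Φ) = 1 - v by
          rw [← hΦv]; exact (map_sub _ _ _).trans (by rw [map_one]),
        sub_mul, one_mul, hv, map_sub, map_one]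
    have h3 : y ∈ X.basicOpen (rO X (X.basicOpen_le g) (g - 1)) := by
      rw [h2, Scheme.basicOpen_mul]
      exact ⟨h1, by rw [Scheme.basicOpen_res]; exact ⟨hyW, hyW⟩⟩
    rw [Scheme.basicOpen_res] at h3
    exact h3.2
  have hWgen : ∀ η : X, IsGen η → η ∈ W := fun η hη => Or.inl (hg η hη)
  refine ⟨W, isAffineOpen_of_isAffineOpen_basicOpen W {Φ, 1 - Φ} ?_ ?_, hWgen,
    fun y hy => Or.inl (hQg y (Finset.mem_union_left _ (Finset.mem_union_left _ hy))), Or.inr ⟨hzM₀, P.mem⟩⟩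
  · rw [Ideal.eq_top_iff_one]
    have h : Φ + (1 - Φ) ∈ Ideal.span ({Φ, 1 - Φ} : Set Γ(X, W)) :=
      add_mem (Ideal.subset_span (Or.inl rfl)) (Ideal.subset_span (Or.inr rfl))
    rwa [add_sub_cancel] at h
  · rintro i (rfl | rfl)
    · rw [hDΦ]; exact hU.basicOpen g
    · have h := (isAffineOpen_inf hdim hWgen hN).basicOpen (rO X (inf_le_left : W ⊓ N ≤ W) (1 - Φ))
      rw [Scheme.basicOpen_res] at h
      rwa [inf_eq_right.2 (le_inf (X.basicOpen_le _) hle)] at h

theorem exists_affine_finset [X.IsSeparated] (hdim : topologicalKrullDim X ≤ 1) (F : Finset X)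
    (hF : ∀ y ∈ F, IsClosed ({y} : Set X)) :
    ∃ U : X.Opens, IsAffineOpen U ∧ (∀ η : X, IsGen η → η ∈ U) ∧ ∀ y ∈ F, y ∈ U := by
  classical
  induction F using Finset.induction_on with
  | empty =>
    obtain ⟨N, hN, -, hgen⟩ := exists_affine_gen (isAffineOpen_bot X)
    exact ⟨N, hN, hgen, by simp⟩
  | @insert z F hzF ih =>
    obtain ⟨U, hU, hgen, hFU⟩ := ih fun y hy => hF y (Finset.mem_insert_of_mem hy)
    by_cases hz : z ∈ U
    · exact ⟨U, hU, hgen, fun y hy => (Finset.mem_insert.1 hy).elim (fun e => e ▸ hz) (hFU y)⟩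
    · obtain ⟨U', hU', hgen', hF', hz'⟩ := exists_affine_insert hdim hU hgen F hFU
        (fun y hy => hF y (Finset.mem_insert_of_mem hy)) hz
      exact ⟨U', hU', hgen', fun y hy => (Finset.mem_insert.1 hy).elim (fun e => e ▸ hz') (hF' y)⟩

end Groth.L22.DimOneAmple
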