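import Groth.Agent.L22.PicGlue.Cocycle
import Groth.Agent.L18.AmpleOps

/-!
The invertible sheaf with a pole of a given function at finitely many points.
-/

set_option autoImplicit false
set_option linter.style.haveILetI false
universe u

open CategoryTheory AlgebraicGeometry TopologicalSpace Opposite

noncomputable section

namespace Groth.L22.DimOneAmple

open Groth.L21.Extend (rO rO_rO)
open Groth.L22.PicGlue

variable {X : Scheme.{u}}

/-- A function with inverses near the points outside an open. -/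
structure TwistData (U : X.Opens) (g : Γ(X, U)) where
  κ : Type u
  M : κ → X.Opens
  φ : ∀ k, Γ(X, M k)
  inter : ∀ k l, k ≠ l → M k ⊓ M l ≤ U
  inv : ∀ k, rO X (inf_le_left : M k ⊓ U ≤ M k) (φ k) * rO X inf_le_right g = 1
  cover : ∀ x, x ∉ U → ∃ k, x ∈ M k

variable {U : X.Opens} {g : Γ(X, U)} (D : TwistData U g)

/-- The cover. -/
@[reducible] def TwistData.N : Option D.κ → X.Opens
  | none => U
  | some k => D.M k

theorem TwistData.le_U {i j : Option D.κ} (h : i ≠ j) : D.N i ⊓ D.N j ≤ U := by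
  rcases i with _ | k
  · exact inf_le_left
  rcases j with _ | l
  · exact inf_le_right
  · exact D.inter k l fun he => h (he ▸ rfl)

/-- The coefficient of `1`. -/
def TwistData.c : ∀ i, Γ(X, D.N i)
  | none => 1
  | some k => D.φ k

/-- Its inverse on the open. -/
def TwistData.e : ∀ i, Γ(X, D.N i ⊓ U)
  | none => 1
  | some k => rO X inf_le_right g

/-- The coefficient of the function. -/
def TwistData.cg : ∀ i, Γ(X, D.N i)
  | none => g
  | some _ => 1

theorem TwistData.c_mul_e : ∀ i, rO X (inf_le_left : D.N i ⊓ U ≤ D.N i) (D.c i) * D.e i = 1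
  | none => by
    show rO X _ (1 : Γ(X, U)) * 1 = 1
    rw [Groth.L22.PicGlue.rO_one, mul_one]
  | some k => D.inv k

open Classical in
/-- The transition functions. -/
def TwistData.tr (i j : Option D.κ) : Γ(X, D.N i ⊓ D.N j) :=
  if h : i = j then 1 else rO X inf_le_left (D.c i) * rO X (le_inf inf_le_right (D.le_U h)) (D.e j)

theorem TwistData.tr_eq (i j : Option D.κ) {W : X.Opens} (hi : W ≤ D.N i) (hj : W ≤ D.N j) (hU : W ≤ U) :
    rO X (le_inf hi hj) (D.tr i j) = rO X hi (D.c i) * rO X (le_inf hj hU) (D.e j) := by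
  unfold TwistData.tr
  split
  · rename_i h
    subst h
    have := congrArg (rO X (le_inf hi hU : W ≤ D.N i ⊓ U)) (D.c_mul_e i)
    simp only [Groth.L22.PicGlue.rO_mul, rO_rO, Groth.L22.PicGlue.rO_one] at this
    rw [this, Groth.L22.PicGlue.rO_one]
  · simp only [Groth.L22.PicGlue.rO_mul, rO_rO]

theorem TwistData.tr_self (i : Option D.κ) : D.tr i i = 1 := dif_pos rfl

/-- The cocycle. -/
@[reducible] def TwistData.cocycle : Cocycle X where
  ι := Option D.κ
  N := D.N
  g := D.tr
  one := D.tr_self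
  comp i j k := by
    by_cases hij : i = j
    · subst hij
      rw [D.tr_self, Groth.L22.PicGlue.rO_one, one_mul]
    by_cases hjk : j = k
    · subst hjk
      rw [D.tr_self, Groth.L22.PicGlue.rO_one, mul_one]
    set W := D.N i ⊓ D.N j ⊓ D.N k
    have hi : W ≤ D.N i := inf_le_left.trans inf_le_left
    have hj : W ≤ D.N j := inf_le_left.trans inf_le_right
    have hk : W ≤ D.N k := inf_le_right
    have hU : W ≤ U := inf_le_left.trans (D.le_U hij)
    show rO X (le_inf hi hj) (D.tr i j) * rO X (le_inf hj hk) (D.tr j k) = rO X (le_inf hi hk) (D.tr i k)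
    rw [D.tr_eq i j hi hj hU, D.tr_eq j k hj hk hU, D.tr_eq i k hi hk hU]
    have := congrArg (rO X (le_inf hj hU : W ≤ D.N j ⊓ U)) (D.c_mul_e j)
    simp only [Groth.L22.PicGlue.rO_mul, rO_rO, Groth.L22.PicGlue.rO_one] at this
    linear_combination (rO X hi (D.c i) * rO X (le_inf hk hU) (D.e k)) * this

theorem TwistData.cg_eq : ∀ i, rO X (inf_le_left : D.N i ⊓ U ≤ D.N i) (D.cg i) =
    rO X (inf_le_left : D.N i ⊓ U ≤ D.N i) (D.c i) * rO X inf_le_right g
  | none => by
    show rO X _ g = rO X _ (1 : Γ(X, U)) * rO X _ g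
    rw [Groth.L22.PicGlue.rO_one, one_mul]
  | some k => by
    show rO X _ (1 : Γ(X, D.M k)) = rO X _ (D.φ k) * rO X _ g
    rw [Groth.L22.PicGlue.rO_one]
    exact (D.inv k).symm

/-- The module. -/
@[reducible] def TwistData.L : X.Modules := glueMod D.cocycle

theorem TwistData.cover_all (x : X) : ∃ i, x ∈ D.N i := by
  by_cases hx : x ∈ U
  · exact ⟨none, hx⟩
  · exact (D.cover x hx).elim fun k hk => ⟨some k, hk⟩

theorem TwistData.isInvertible : PicF.IsInvertible D.L := isInvertible_glueMod _ D.cover_all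

/-- A global section with prescribed coefficients. -/
theorem TwistData.exists_hom (d : ∀ i, Γ(X, D.N i)) (h : Γ(X, U))
    (hd : ∀ i, rO X (inf_le_left : D.N i ⊓ U ≤ D.N i) (d i) =
      rO X (inf_le_left : D.N i ⊓ U ≤ D.N i) (D.c i) * rO X inf_le_right h) :
    ∃ s : Coh.structureModule X ⟶ D.L, ∀ i, CohB1.genLocus D.L s ⊓ D.N i = X.basicOpen (d i) := by
  obtain ⟨σ, hσ⟩ := exists_section D.cocycle (V := ⊤) (fun i => rO X inf_le_right (d i)) fun i j => by
    by_cases hij : i = j
    · subst hij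
      rw [show D.cocycle.g i i = 1 from D.tr_self i, Groth.L22.PicGlue.rO_one, one_mul]
    set W := (⊤ : X.Opens) ⊓ (D.N i ⊓ D.N j)
    have hi : W ≤ D.N i := inf_le_right.trans inf_le_left
    have hj : W ≤ D.N j := inf_le_right.trans inf_le_right
    have hU : W ≤ U := inf_le_right.trans (D.le_U hij)
    simp only [rO_rO]
    show rO X hi (d i) = rO X (le_inf hi hj) (D.tr i j) * rO X hj (d j)
    have e1 := congrArg (rO X (le_inf hi hU : W ≤ D.N i ⊓ U)) (hd i)
    have e2 := congrArg (rO X (le_inf hj hU : W ≤ D.N j ⊓ U)) (hd j)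
    have e3 := congrArg (rO X (le_inf hj hU : W ≤ D.N j ⊓ U)) (D.c_mul_e j)
    simp only [Groth.L22.PicGlue.rO_mul, rO_rO, Groth.L22.PicGlue.rO_one] at e1 e2 e3
    rw [D.tr_eq i j hi hj hU, e1, e2]
    linear_combination (-(rO X hi (D.c i) * rO X hU h)) * e3
  refine ⟨Groth.L16.homOfSection D.L σ, fun i => ?_⟩
  refine Groth.L18.GenLoc.genLocus_inf_eq _ (e := gen D.cocycle i) (isGen_gen D.cocycle i) ?_
  rw [Groth.L18.GenLoc.secOf_homOfSection]
  have h1 := smul_gen_eq D.cocycle i (le_refl _) (Groth.L21.Extend.rs D.L le_top σ)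
  rw [Groth.L21.Extend.rs_self] at h1
  have h2 : coef D.cocycle i (le_refl _) (Groth.L21.Extend.rs D.L le_top σ) = d i := by
    rw [coef, coords_rs, hσ]
    simp only [rO_rO]
    exact Groth.L22.PicGlue.rO_self _ _
  rw [h2] at h1
  exact h1

end Groth.L22.DimOneAmple
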