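import Groth.Agent.L22.DimOneAmple.Ring
import Groth.Agent.L22.PicGlue.Curve
import Mathlib.AlgebraicGeometry.Morphisms.Separated

/-!
Functions on an affine open of a one-dimensional separated Noetherian scheme with pure poles at
finitely many points outside it.
-/

set_option autoImplicit false
set_option linter.style.haveILetI false
universe u v

open CategoryTheory AlgebraicGeometry TopologicalSpace Opposite

noncomputable section

namespace Groth.L22.DimOneAmple

open Groth.L21.Extend Groth.L22.PicGlue Groth.L22.Glue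

variable {X : Scheme.{u}}

/-- A punctured neighbourhood of a point outside an open. -/
structure Punct (U : X.Opens) (z : X) where
  V : X.Opens
  isAffine : IsAffineOpen V
  mem : z ∈ V
  notMem : z ∉ U
  f : Γ(X, V)
  basicOpen_eq : X.basicOpen f = V ⊓ U

variable {U : X.Opens} {z : X} (P : Punct U z)

/-- The germ of the puncturing function. -/
def Punct.fz : X.presheaf.stalk z := X.presheaf.germ P.V z P.mem P.f

theorem Punct.fz_mem : P.fz ∈ IsLocalRing.maximalIdeal (X.presheaf.stalk z) := fun h =>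
  P.notMem (P.basicOpen_eq.le ((X.mem_basicOpen P.f z P.mem).2 h)).2

/-- The ring of the punctured local scheme. -/
abbrev Punct.R : Type u := Localization.Away P.fz

theorem Punct.le_U : X.basicOpen P.f ≤ U := P.basicOpen_eq.le.trans inf_le_right

/-- Sections near the punctured point to the punctured local ring. -/
def Punct.θ : Γ(X, X.basicOpen P.f) →+* P.R :=
  haveI := P.isAffine.isLocalization_basicOpen P.f
  haveI : IsLocalization.Away ((X.presheaf.germ P.V z P.mem).hom P.f) P.R :=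
    inferInstanceAs (IsLocalization.Away P.fz (Localization.Away P.fz))
  IsLocalization.Away.map Γ(X, X.basicOpen P.f) P.R (X.presheaf.germ P.V z P.mem).hom P.f

theorem Punct.θ_res (r : Γ(X, P.V)) :
    P.θ (rO X (X.basicOpen_le P.f) r) = algebraMap (X.presheaf.stalk z) P.R (X.presheaf.germ P.V z P.mem r) := by
  haveI := P.isAffine.isLocalization_basicOpen P.f
  exact IsLocalization.map_eq (Q := P.R) (M := Submonoid.powers P.f) (T := Submonoid.powers P.fz) (S := Γ(X, X.basicOpen P.f))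
    (by rintro _ ⟨n, rfl⟩; exact ⟨n, (map_pow (X.presheaf.germ P.V z P.mem).hom P.f n).symm⟩) r

/-- Functions on the open to the punctured local ring. -/
def Punct.ρ : Γ(X, U) →+* P.R := P.θ.comp (X.presheaf.map (homOfLE P.le_U).op).hom

theorem Punct.morphisms_agree :
    Spec.map (CommRingCat.ofHom ((algebraMap (X.presheaf.stalk z) P.R).comp (X.presheaf.germ P.V z P.mem).hom)) ≫
      P.isAffine.fromSpec = Spec.map (CommRingCat.ofHom P.θ) ≫ (P.isAffine.basicOpen P.f).fromSpec := by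
  rw [← P.isAffine.map_fromSpec (P.isAffine.basicOpen P.f) (homOfLE (X.basicOpen_le P.f)).op,
    ← Spec.map_comp_assoc]
  congr 2
  exact CommRingCat.hom_ext (RingHom.ext fun r => (P.θ_res r).symm)

theorem Punct.morphisms_agree' (hU : IsAffineOpen U) :
    Spec.map (CommRingCat.ofHom P.ρ) ≫ hU.fromSpec =
      Spec.map (CommRingCat.ofHom P.θ) ≫ (P.isAffine.basicOpen P.f).fromSpec := by
  rw [← hU.map_fromSpec (P.isAffine.basicOpen P.f) (homOfLE P.le_U).op, ← Spec.map_comp_assoc]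
  rfl

theorem Punct.point (hU : IsAffineOpen U) (p : PrimeSpectrum P.R) :
    ∃ y : X, y ∈ U ∧ y ≠ z ∧ y ⤳ z ∧ ∀ c : Γ(X, U), P.ρ c ∈ p.asIdeal ↔ y ∉ X.basicOpen c := by
  let q : Spec Γ(X, U) := PrimeSpectrum.comap P.ρ p
  have hqU : hU.fromSpec q ∈ U := hU.range_fromSpec.le ⟨q, rfl⟩
  refine ⟨hU.fromSpec q, hqU, fun he => P.notMem (he ▸ hqU), ?_, fun c => ?_⟩
  · have h := congr($(P.morphisms_agree.trans (P.morphisms_agree' hU).symm) p)
    simp only [Scheme.Hom.comp_apply] at h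
    let q' : Spec Γ(X, P.V) :=
      PrimeSpectrum.comap ((algebraMap (X.presheaf.stalk z) P.R).comp (X.presheaf.germ P.V z P.mem).hom) p
    have hle : q'.asIdeal ≤ (P.isAffine.primeIdealOf ⟨z, P.mem⟩).asIdeal := fun r hr => by
      rw [primeIdealOf_eq_comap P.isAffine P.mem r, X.mem_basicOpen r z P.mem]
      exact fun hu => p.2.ne_top (Ideal.eq_top_of_isUnit_mem _ hr (hu.map (algebraMap (X.presheaf.stalk z) P.R)))
    have h2 : P.isAffine.fromSpec q' ⤳ P.isAffine.fromSpec (P.isAffine.primeIdealOf ⟨z, P.mem⟩) :=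
      ((PrimeSpectrum.le_iff_specializes _ _).1 hle).map P.isAffine.fromSpec.continuous
    rw [P.isAffine.fromSpec_primeIdealOf] at h2
    rw [show hU.fromSpec q = P.isAffine.fromSpec q' from h.symm]
    exact h2
  · have h2 : q ∈ hU.fromSpec ⁻¹ᵁ X.basicOpen c ↔ c ∉ q.asIdeal := by
      rw [hU.fromSpec_preimage_basicOpen]; rfl
    exact (not_iff_comm.1 h2.symm).symm

/-- The map to a branch field. -/
def Punct.ψ (p : PrimeSpectrum P.R) : Γ(X, U) →+* p.asIdeal.ResidueField :=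
  (algebraMap P.R p.asIdeal.ResidueField).comp P.ρ

variable [IsNoetherianRing (X.presheaf.stalk z)]

theorem Punct.exists_notMem [X.IsSeparated] (hU : IsAffineOpen U)
    (hdim : ringKrullDim (X.presheaf.stalk z) ≤ 1) (p : PrimeSpectrum P.R)
    {W : ValuationSubring p.asIdeal.ResidueField} (hW : W ∈ branches (X.presheaf.stalk z) p) :
    ∃ a : Γ(X, U), P.ψ p a ∉ W := by
  by_contra hcon
  push Not at hcon
  let e₁ : Γ(X, P.V) →+* W :=
    ((toRes (O := X.presheaf.stalk z) p).comp (X.presheaf.germ P.V z P.mem).hom).codRestrict W.toSubring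
      fun r => hW.2 ⟨_, rfl⟩
  let e₂ : Γ(X, U) →+* W := (P.ψ p).codRestrict W.toSubring fun a => hcon a
  let m₁ : Spec (CommRingCat.of W) ⟶ X := Spec.map (CommRingCat.ofHom e₁) ≫ P.isAffine.fromSpec
  let m₂ : Spec (CommRingCat.of W) ⟶ X := Spec.map (CommRingCat.ofHom e₂) ≫ hU.fromSpec
  let ι : Spec (CommRingCat.of p.asIdeal.ResidueField) ⟶ Spec (CommRingCat.of W) :=
    Spec.map (CommRingCat.ofHom W.subtype)
  have hagree : ι ≫ m₁ = ι ≫ m₂ := by
    have h := congrArg (fun m => Spec.map (CommRingCat.ofHom (algebraMap P.R p.asIdeal.ResidueField)) ≫ m)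
      (P.morphisms_agree.trans (P.morphisms_agree' hU).symm)
    simp only [← Spec.map_comp_assoc] at h
    simp only [ι, m₁, m₂, ← Spec.map_comp_assoc]
    exact h
  haveI : IsDominant ι := ⟨(PrimeSpectrum.denseRange_comap_iff_ker_le_nilRadical _).2 (by
    intro x hx
    rw [show x = 0 from Subtype.ext hx]
    exact zero_mem _)⟩
  haveI : IsSeparated (Limits.terminal.from X) := Scheme.IsSeparated.isSeparated_terminal_from
  have heq : m₁ = m₂ := ext_of_isDominant_of_isSeparated (Limits.terminal.from X)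
    (Limits.terminal.hom_ext _ _) ι hagree
  let s : Spec (CommRingCat.of W) := IsLocalRing.closedPoint W
  have h₂ : m₂ s ∈ U := hU.range_fromSpec.le ⟨Spec.map (CommRingCat.ofHom e₂) s, rfl⟩
  have h₁V : m₁ s ∈ P.V := P.isAffine.range_fromSpec.le ⟨Spec.map (CommRingCat.ofHom e₁) s, rfl⟩
  have hin : m₁ s ∈ X.basicOpen P.f := P.basicOpen_eq.ge ⟨h₁V, heq ▸ h₂⟩
  have hpre : (Spec.map (CommRingCat.ofHom e₁) s) ∈ P.isAffine.fromSpec ⁻¹ᵁ X.basicOpen P.f := hin
  rw [P.isAffine.fromSpec_preimage_basicOpen] at hpre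
  refine hpre ?_
  show e₁ P.f ∈ IsLocalRing.maximalIdeal W
  exact (W.valuation_lt_one_iff _).2 (valuation_toRes_lt_one hdim P.fz_mem p hW)

/-- Spreading out an inverse in the punctured local ring. -/
theorem Punct.spread (g : Γ(X, U)) {φ : X.presheaf.stalk z}
    (hφ : φ ∈ IsLocalRing.maximalIdeal (X.presheaf.stalk z))
    (h : algebraMap (X.presheaf.stalk z) P.R φ * P.ρ g = 1) :
    ∃ (M : X.Opens) (a : Γ(X, M)), z ∈ M ∧ M ≤ P.V ∧ z ∉ X.basicOpen a ∧
      rO X (inf_le_left : M ⊓ U ≤ M) a * rO X inf_le_right g = 1 := by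
  letI : Algebra Γ(X, P.V) (X.presheaf.stalk z) := (X.presheaf.germ P.V z P.mem).hom.toAlgebra
  haveI : IsLocalization.AtPrime (X.presheaf.stalk z) (P.isAffine.primeIdealOf ⟨z, P.mem⟩).asIdeal :=
    P.isAffine.isLocalization_stalk ⟨z, P.mem⟩
  haveI := P.isAffine.isLocalization_basicOpen P.f
  obtain ⟨⟨r, u⟩, hru⟩ := IsLocalization.surj (P.isAffine.primeIdealOf ⟨z, P.mem⟩).asIdeal.primeCompl φ
  have hru' : φ * X.presheaf.germ P.V z P.mem u.1 = X.presheaf.germ P.V z P.mem r := hru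
  set D := X.basicOpen P.f
  set d : Γ(X, D) := rO X (X.basicOpen_le P.f) r * rO X P.le_U g - rO X (X.basicOpen_le P.f) u.1
  have hd : P.θ d = 0 := by
    rw [map_sub, map_mul, P.θ_res, P.θ_res, ← hru', map_mul, mul_right_comm]
    show algebraMap _ _ φ * P.ρ g * _ - _ = 0
    rw [h, one_mul, sub_self]
  obtain ⟨n, w, hw⟩ := IsLocalization.Away.surj P.f d
  have hw0 : algebraMap (X.presheaf.stalk z) P.R (X.presheaf.germ P.V z P.mem w) = 0 := by
    rw [← P.θ_res]
    show P.θ (algebraMap Γ(X, P.V) Γ(X, D) w) = 0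
    rw [← hw, map_mul, hd, zero_mul]
  obtain ⟨⟨_, k, rfl⟩, hk⟩ := (IsLocalization.map_eq_zero_iff (Submonoid.powers P.fz) P.R _).1 hw0
  have hk' : algebraMap Γ(X, P.V) (X.presheaf.stalk z) (P.f ^ k * w) = 0 := by
    rw [map_mul, map_pow]; exact hk
  obtain ⟨⟨s, hs⟩, hsw⟩ := (IsLocalization.map_eq_zero_iff
    (P.isAffine.primeIdealOf ⟨z, P.mem⟩).asIdeal.primeCompl (X.presheaf.stalk z) _).1 hk'
  have hmem : ∀ t : Γ(X, P.V), t ∉ (P.isAffine.primeIdealOf ⟨z, P.mem⟩).asIdeal → z ∈ X.basicOpen t := fun t ht =>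
    not_not.1 fun hn => ht ((primeIdealOf_eq_comap P.isAffine P.mem t).2 hn)
  set M := X.basicOpen u.1 ⊓ X.basicOpen s
  have hMV : M ≤ P.V := inf_le_left.trans (X.basicOpen_le _)
  have huM : IsUnit (rO X hMV u.1) := by
    have := (RingedSpace.isUnit_res_basicOpen _ u.1).map
      (X.presheaf.map (homOfLE (inf_le_left : M ≤ X.basicOpen u.1)).op).hom
    convert this using 1
    exact (rO_rO (inf_le_left : M ≤ X.basicOpen u.1) (X.basicOpen_le _) u.1).symm
  obtain ⟨v, hv⟩ := huM.exists_right_inv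
  refine ⟨M, rO X hMV r * v, ⟨hmem _ u.2, hmem _ hs⟩, hMV, fun hz => ?_, ?_⟩
  · rw [Scheme.basicOpen_mul, Scheme.basicOpen_res] at hz
    have hr : IsUnit (X.presheaf.germ P.V z P.mem r) := (X.mem_basicOpen r z P.mem).1 hz.1.2
    rw [← hru'] at hr
    exact hφ (isUnit_of_mul_isUnit_left hr)
  · have hMD : M ⊓ U ≤ D := fun y hy => P.basicOpen_eq.ge ⟨hMV hy.1, hy.2⟩
    have hfu : IsUnit (rO X (hMD.trans (X.basicOpen_le _)) P.f) := by
      have := (RingedSpace.isUnit_res_basicOpen _ P.f).map (X.presheaf.map (homOfLE hMD).op).hom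
      convert this using 1
      exact (rO_rO hMD (X.basicOpen_le _) P.f).symm
    have hsu : IsUnit (rO X (hMD.trans (X.basicOpen_le _)) s) := by
      have := (RingedSpace.isUnit_res_basicOpen _ s).map
        (X.presheaf.map (homOfLE (inf_le_left.trans inf_le_right : M ⊓ U ≤ X.basicOpen s)).op).hom
      convert this using 1
      exact (rO_rO (inf_le_left.trans inf_le_right : M ⊓ U ≤ X.basicOpen s) (X.basicOpen_le _) s).symm
    have h1 := congrArg (rO X (hMD.trans (X.basicOpen_le _))) hsw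
    simp only [Groth.L22.PicGlue.rO_mul, Groth.L22.PicGlue.rO_zero] at h1
    rw [show rO X (hMD.trans (X.basicOpen_le _)) (P.f ^ k) = rO X (hMD.trans (X.basicOpen_le _)) P.f ^ k from
      map_pow _ _ _, hsu.mul_right_eq_zero, (hfu.pow k).mul_right_eq_zero] at h1
    have h2 := congrArg (rO X hMD) hw
    rw [Groth.L22.PicGlue.rO_mul, show rO X hMD (algebraMap Γ(X, P.V) Γ(X, D) P.f ^ n) =
        rO X hMD (algebraMap Γ(X, P.V) Γ(X, D) P.f) ^ n from map_pow _ _ _,
      show rO X hMD (algebraMap Γ(X, P.V) Γ(X, D) w) = rO X (hMD.trans (X.basicOpen_le _)) w from rO_rO _ _ _,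
      show rO X hMD (algebraMap Γ(X, P.V) Γ(X, D) P.f) = rO X (hMD.trans (X.basicOpen_le _)) P.f from rO_rO _ _ _,
      h1, (hfu.pow n).mul_left_eq_zero] at h2
    have h3 : rO X hMD (rO X (X.basicOpen_le P.f) r) * rO X hMD (rO X P.le_U g) =
        rO X hMD (rO X (X.basicOpen_le P.f) u.1) := by
      rw [← sub_eq_zero, ← Groth.L22.PicGlue.rO_mul]
      exact (map_sub (X.presheaf.map (homOfLE hMD).op).hom _ _).symm.trans h2
    simp only [rO_rO] at h3
    have hv' := congrArg (rO X (inf_le_left : M ⊓ U ≤ M)) hv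
    simp only [Groth.L22.PicGlue.rO_mul, rO_rO, Groth.L22.PicGlue.rO_one] at hv'
    simp only [Groth.L22.PicGlue.rO_mul, rO_rO]
    calc _ = rO X _ v * (rO X _ r * rO X _ g) := by ring
      _ = rO X _ v * rO X _ u.1 := by rw [h3]
      _ = 1 := by rw [mul_comm]; exact hv'

/-- Inverses of large powers of functions with poles on every branch. -/
theorem Punct.exists_inv_pow (hdim : ringKrullDim (X.presheaf.stalk z) ≤ 1) (g : Γ(X, U))
    (hg : ∀ (p : PrimeSpectrum P.R), ∀ W ∈ branches (X.presheaf.stalk z) p, 1 < W.valuation (P.ψ p g)) :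
    ∃ n : ℕ, 1 ≤ n ∧ ∃ φ ∈ IsLocalRing.maximalIdeal (X.presheaf.stalk z),
      algebraMap (X.presheaf.stalk z) P.R φ * P.ρ g ^ n = 1 := by
  refine exists_inv_pow_mem hdim P.fz_mem _ (fun p hp => ?_) hg
  obtain ⟨W, hW⟩ := branch_nonempty hdim P.fz_mem p
  have h1 : 1 < W.valuation (P.ψ p g) := hg p W hW
  have h0 : P.ψ p g = 0 := Ideal.algebraMap_residueField_eq_zero.2 hp
  rw [h0, map_zero] at h1
  exact not_lt_zero h1

omit [IsNoetherianRing (X.presheaf.stalk z)] in
theorem Punct.not_le_ker (hU : IsAffineOpen U) (Q : Finset X) (hQU : ∀ q ∈ Q, q ∈ U)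
    (hQz : ∀ q ∈ Q, ¬ q ⤳ z) (p : PrimeSpectrum P.R) :
    ¬ Q.attach.inf (fun q => (hU.primeIdealOf ⟨q.1, hQU q.1 q.2⟩).asIdeal) ≤ RingHom.ker (P.ψ p) := by
  intro hle
  obtain ⟨y, hyU, -, hys, hy⟩ := P.point hU p
  have hker : RingHom.ker (P.ψ p) ≤ (hU.primeIdealOf ⟨y, hyU⟩).asIdeal := fun c hc =>
    (primeIdealOf_eq_comap hU hyU c).2 ((hy c).1 (Ideal.algebraMap_residueField_eq_zero.1 hc))
  obtain ⟨q, -, hq⟩ := ((hU.primeIdealOf ⟨y, hyU⟩).2.inf_le').1 (hle.trans hker)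
  have h := ((PrimeSpectrum.le_iff_specializes _ _).1 hq).map hU.fromSpec.continuous
  rw [hU.fromSpec_primeIdealOf, hU.fromSpec_primeIdealOf] at h
  exact hQz q.1 q.2 (h.trans hys)

section Alg

variable {A : Type v} [CommRing A] {ι : Type v} {K : ι → Type u} [∀ i, Field (K i)]

/-- An element with prescribed class and poles on finitely many valuations. -/
theorem exists_poles_alg [Finite ι] (ψ : ∀ i, A →+* K i) (V : ∀ i, ValuationSubring (K i))
    (hV : ∀ i, IsDiscreteValuationRing (V i)) (h : ∀ i, ∃ a, ψ i a ∉ V i) (I : Ideal A)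
    (hI : ∀ i, ¬ I ≤ RingHom.ker (ψ i)) (a : A) (ha : a = 0 ∨ a = 1) :
    ∃ g : A, g - a ∈ I ∧ ∀ i, 1 < (V i).valuation (ψ i g) := by
  classical
  haveI := Fintype.ofFinite ι
  haveI := hV
  obtain ⟨b, hb⟩ := exists_pole ψ V h Finset.univ
  obtain ⟨c, hc, hcy⟩ := Groth.Agent.S7661.result A I (Finset.univ.image fun i => RingHom.ker (ψ i))
    (fun p hp => by
      obtain ⟨i, -, rfl⟩ := Finset.mem_image.1 hp
      exact RingHom.ker_isPrime _)
    (fun p hp => by
      obtain ⟨i, -, rfl⟩ := Finset.mem_image.1 hp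
      exact hI i) 0
  obtain ⟨N, hN⟩ := exists_pow_pole ψ V (fun i => hb i (Finset.mem_univ i))
    (fun i => hcy _ (Finset.mem_image_of_mem _ (Finset.mem_univ i))) a ha
  refine ⟨a + c * b ^ N, ?_, hN⟩
  rw [add_sub_cancel_left]
  exact I.mul_mem_right _ (Ideal.Quotient.eq_zero_iff_mem.1 hc)

end Alg

/-- Functions with pure poles at finitely many points and prescribed value `0` or `1` at closed points. -/
theorem exists_poles [IsNoetherian X] [X.IsSeparated] (hdim : topologicalKrullDim X ≤ 1)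
    (hU : IsAffineOpen U) (Z : Finset X) (P : ∀ z : Z, Punct U z.1) (Q : Finset X) (hQU : ∀ q ∈ Q, q ∈ U)
    (hQz : ∀ q ∈ Q, ∀ z ∈ Z, ¬ q ⤳ z) (a : Γ(X, U)) (ha : a = 0 ∨ a = 1) :
    ∃ g : Γ(X, U), (∀ q ∈ Q, (q ∈ X.basicOpen g ↔ a = 1) ∧ q ∉ X.basicOpen (g - a)) ∧
      ∀ z : Z, ∃ (M : X.Opens) (φ : Γ(X, M)), z.1 ∈ M ∧ M ≤ (P z).V ∧ z.1 ∉ X.basicOpen φ ∧
        rO X (inf_le_left : M ⊓ U ≤ M) φ * rO X inf_le_right g = 1 := by
  classical
  have hd : ∀ z : X, ringKrullDim (X.presheaf.stalk z) ≤ 1 := fun z => (ringKrullDim_stalk_le z).trans hdim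
  haveI : ∀ z : Z, Finite (PrimeSpectrum (P z).R) := fun z => prime_finite (hd z.1) (P z).fz_mem
  haveI : ∀ (z : Z) (p : PrimeSpectrum (P z).R), Finite (branches (X.presheaf.stalk z.1) p) := fun z p =>
    (finite_branches (hd z.1) (P z).fz_mem p).1.to_subtype
  obtain ⟨g₁, hgI, hg⟩ := exists_poles_alg
    (ι := Σ z : Z, Σ p : PrimeSpectrum (P z).R, branches (X.presheaf.stalk z.1) p)
    (fun i => (P i.1).ψ i.2.1) (fun i => i.2.2.1)
    (fun i => (finite_branches (hd i.1.1) (P i.1).fz_mem i.2.1).2 _ i.2.2.2)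
    (fun i => (P i.1).exists_notMem hU (hd _) i.2.1 i.2.2.2)
    (Q.attach.inf fun q => (hU.primeIdealOf ⟨q.1, hQU q.1 q.2⟩).asIdeal)
    (fun i => (P i.1).not_le_ker hU Q hQU (fun q hq => hQz q hq _ i.1.2) i.2.1) a ha
  choose n hn φ hφ hφe using fun z : Z => (P z).exists_inv_pow (hd z.1) g₁ fun p W hW => hg ⟨z, p, W, hW⟩
  have hM : (∏ z : Z, n z) ≠ 0 := Finset.prod_ne_zero_iff.2 fun z _ => (zero_lt_one.trans_le (hn z)).ne'
  refine ⟨g₁ ^ (∏ z : Z, n z), fun q hq => ?_, fun z => ?_⟩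
  · rw [X.basicOpen_pow _ (Nat.pos_of_ne_zero hM)]
    have hmem : g₁ - a ∈ (hU.primeIdealOf ⟨q, hQU q hq⟩).asIdeal :=
      Finset.inf_le (f := fun q => (hU.primeIdealOf ⟨q.1, hQU q.1 q.2⟩).asIdeal) (Q.mem_attach ⟨q, hq⟩) hgI
    refine ⟨⟨fun h => ?_, fun h1 => ?_⟩, (primeIdealOf_eq_comap hU (hQU q hq) _).1 ?_⟩
    · refine ha.resolve_left fun h0 => ?_
      rw [h0, sub_zero] at hmem
      exact (primeIdealOf_eq_comap hU (hQU q hq) g₁).1 hmem h
    · by_contra hn'
      have h2 := sub_mem ((primeIdealOf_eq_comap hU (hQU q hq) g₁).2 hn') hmem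
      rw [sub_sub_cancel, h1] at h2
      exact (hU.primeIdealOf _).2.ne_top ((Ideal.eq_top_iff_one _).2 h2)
    · obtain ⟨w, hw⟩ := sub_dvd_pow_sub_pow g₁ a (∏ z : Z, n z)
      have haM : a ^ (∏ z : Z, n z) = a := by
        rcases ha with rfl | rfl
        · exact zero_pow hM
        · exact one_pow _
      rw [← haM, hw]
      exact Ideal.mul_mem_right _ _ hmem
  · obtain ⟨k, hk⟩ : n z ∣ ∏ z : Z, n z := Finset.dvd_prod_of_mem n (Finset.mem_univ z)
    have hk0 : k ≠ 0 := fun h => hM (by rw [hk, h, mul_zero])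
    obtain ⟨M', φ', h1, h2, h3, h4⟩ := (P z).spread (g₁ ^ (∏ z : Z, n z)) (φ := φ z ^ k)
      (Ideal.pow_mem_of_mem _ (hφ z) _ (Nat.pos_of_ne_zero hk0))
      (by rw [map_pow, map_pow, hk, pow_mul, ← mul_pow, hφe, one_pow])
    exact ⟨M', φ', h1, h2, h3, h4⟩

end Groth.L22.DimOneAmple
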