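import Groth.Agent.L22.GlueVal
import Groth.Agent.L22.PicGlue.Points
import Mathlib.RingTheory.LocalRing.ResidueField.Ideal
import Mathlib.RingTheory.Localization.Away.Basic
import Mathlib.RingTheory.Nilpotent.Lemmas

/-!
Elements with poles on every branch of a one-dimensional Noetherian local ring.
-/

set_option autoImplicit false
universe u v

set_option linter.style.haveILetI false

open Groth.L22.Glue

namespace Groth.L22.DimOneAmple

section
variable {O R : Type u} [CommRing O] [CommRing R] [Algebra O R]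

/-- The map to the residue field of a prime of the localisation. -/
noncomputable def toRes (p : PrimeSpectrum R) : O →+* p.asIdeal.ResidueField :=
  (algebraMap R p.asIdeal.ResidueField).comp (algebraMap O R)

theorem prime_finite [IsLocalRing O] [IsNoetherianRing O] (hdim : ringKrullDim O ≤ 1) {f : O}
    (hf : f ∈ IsLocalRing.maximalIdeal O) [IsLocalization.Away f R] : Finite (PrimeSpectrum R) := by
  haveI : Finite {Q : PrimeSpectrum O // Q ≠ IsLocalRing.closedPoint O} :=
    ((Groth.L22.PicGlue.primes_of_dim_le_one hdim).1).to_subtype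
  refine Finite.of_injective
    (fun p : PrimeSpectrum R => (⟨PrimeSpectrum.comap (algebraMap O R) p, fun he => ?_⟩ :
      {Q : PrimeSpectrum O // Q ≠ IsLocalRing.closedPoint O})) fun p q h => ?_
  · have : f ∈ (PrimeSpectrum.comap (algebraMap O R) p).asIdeal := he ▸ hf
    exact p.2.ne_top (Ideal.eq_top_of_isUnit_mem _ this (IsLocalization.Away.algebraMap_isUnit f))
  · exact PrimeSpectrum.localization_comap_injective R (Submonoid.powers f) (Subtype.mk.inj h)

variable [IsLocalRing O] [IsNoetherianRing O] {f : O} [IsLocalization.Away f R]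

theorem range_facts (hdim : ringKrullDim O ≤ 1) (hf : f ∈ IsLocalRing.maximalIdeal O)
    (p : PrimeSpectrum R) :
    IsNoetherianRing (toRes (O := O) p).range ∧ IsFractionRing (toRes (O := O) p).range p.asIdeal.ResidueField ∧
      ringKrullDim (toRes (O := O) p).range = 1 ∧ Finite (MaximalSpectrum (toRes (O := O) p).range) ∧
      toRes (O := O) p f ≠ 0 ∧
      ∃ c : (toRes (O := O) p).range, (c : p.asIdeal.ResidueField) = toRes (O := O) p f ∧
        c ∈ Ideal.jacobson (⊥ : Ideal (toRes (O := O) p).range) := by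
  set ψ := toRes (O := O) p
  have hsurj : Function.Surjective ψ.rangeRestrict := ψ.rangeRestrict_surjective
  haveI hN : IsNoetherianRing ψ.range := isNoetherianRing_of_surjective O ψ.range ψ.rangeRestrict hsurj
  have hf0 : ψ f ≠ 0 := ((IsLocalization.Away.algebraMap_isUnit (S := R) f).map
    (algebraMap R p.asIdeal.ResidueField)).ne_zero
  haveI : IsLocalRing ψ.range := IsLocalRing.of_surjective' ψ.rangeRestrict hsurj
  have hc : ψ.rangeRestrict f ∈ IsLocalRing.maximalIdeal ψ.range := by
    intro hu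
    obtain ⟨⟨_, ⟨v, rfl⟩⟩, hv⟩ := hu.exists_right_inv
    have hv' : ψ f * ψ v = 1 := congrArg Subtype.val hv
    have hu' : IsUnit (1 - f * v) := IsLocalRing.isUnit_one_sub_self_of_mem_nonunits _
      (Ideal.mul_mem_right v _ hf : f * v ∈ IsLocalRing.maximalIdeal O)
    have := hu'.map ψ
    rw [map_sub, map_one, map_mul, hv', sub_self] at this
    exact not_isUnit_zero this
  refine ⟨hN, ?_, ?_, ?_, hf0, ψ.rangeRestrict f, rfl, ?_⟩
  · have hRdiv : ∀ z : R, ∃ (a : O) (n : ℕ), z * algebraMap O R f ^ n = algebraMap O R a := fun z => by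
      obtain ⟨n, a, ha⟩ := IsLocalization.Away.surj f z
      exact ⟨a, n, ha⟩
    refine IsFractionRing.of_field ψ.range p.asIdeal.ResidueField fun z => ?_
    obtain ⟨a, b, hb, rfl⟩ := IsFractionRing.div_surjective (R ⧸ p.asIdeal) z
    obtain ⟨a, rfl⟩ := Ideal.Quotient.mk_surjective a
    obtain ⟨b, rfl⟩ := Ideal.Quotient.mk_surjective b
    obtain ⟨a', n, ha'⟩ := hRdiv a
    obtain ⟨b', m, hb'⟩ := hRdiv b
    refine ⟨⟨ψ (a' * f ^ m), _, rfl⟩, ⟨ψ (b' * f ^ n), _, rfl⟩, ?_⟩
    have h1 := congrArg (algebraMap R p.asIdeal.ResidueField) ha'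
    have h2 := congrArg (algebraMap R p.asIdeal.ResidueField) hb'
    simp only [map_mul, map_pow] at h1 h2
    show _ = ψ (a' * f ^ m) / ψ (b' * f ^ n)
    rw [map_mul, map_mul, map_pow, map_pow]
    show _ = (algebraMap R p.asIdeal.ResidueField (algebraMap O R a') * ψ f ^ m) /
      (algebraMap R p.asIdeal.ResidueField (algebraMap O R b') * ψ f ^ n)
    rw [← h1, ← h2]
    show algebraMap R p.asIdeal.ResidueField a / algebraMap R p.asIdeal.ResidueField b =
      (algebraMap R p.asIdeal.ResidueField a * ψ f ^ n * ψ f ^ m) /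
        (algebraMap R p.asIdeal.ResidueField b * ψ f ^ m * ψ f ^ n)
    rw [mul_assoc, mul_assoc, mul_comm (ψ f ^ m) (ψ f ^ n),
      mul_div_mul_right _ _ (mul_ne_zero (pow_ne_zero _ hf0) (pow_ne_zero _ hf0))]
  · refine le_antisymm ((ringKrullDim_le_of_surjective ψ.rangeRestrict hsurj).trans hdim) ?_
    by_contra hlt
    haveI : Ring.KrullDimLE 0 ψ.range := Ring.krullDimLE_iff.2 (by
      by_contra h
      revert hlt h
      generalize ringKrullDim ψ.range = d
      intro hlt h
      induction d using WithBot.recBotCoe with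
      | bot => exact h bot_le
      | coe d =>
        rcases eq_or_ne d 0 with rfl | hd
        · exact h le_rfl
        · exact hlt (WithBot.coe_le_coe.2 (Order.one_le_iff_pos.2 (pos_iff_ne_zero.2 hd))))
    have hbot : (⊥ : Ideal ψ.range).IsMaximal := Ideal.isMaximal_of_isPrime ⊥
    rw [← IsLocalRing.eq_maximalIdeal hbot, Ideal.mem_bot] at hc
    exact hf0 (congrArg Subtype.val hc)
  · exact Finite.of_surjective (fun _ : Unit => (⟨IsLocalRing.maximalIdeal ψ.range, inferInstance⟩ :
      MaximalSpectrum ψ.range)) fun m => ⟨(), MaximalSpectrum.ext (IsLocalRing.eq_maximalIdeal m.isMaximal).symm⟩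
  · rw [IsLocalRing.jacobson_eq_maximalIdeal ⊥ bot_ne_top]
    exact hc

/-- The valuation rings at the branches. -/
def branches (O : Type u) {R : Type u} [CommRing O] [CommRing R] [Algebra O R] (p : PrimeSpectrum R) :
    Set (ValuationSubring p.asIdeal.ResidueField) :=
  Over (toRes (O := O) p).range

theorem finite_branches (hdim : ringKrullDim O ≤ 1) (hf : f ∈ IsLocalRing.maximalIdeal O)
    (p : PrimeSpectrum R) :
    (branches O p).Finite ∧ ∀ V ∈ branches O p, IsDiscreteValuationRing V := by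
  obtain ⟨hN, hF, h1, hsl, -, -⟩ := range_facts (R := R) hdim hf p
  exact ⟨finite_over h1 hsl, fun V hV => isDVR_of_mem_over h1 hV⟩

theorem branch_nonempty (hdim : ringKrullDim O ≤ 1) (hf : f ∈ IsLocalRing.maximalIdeal O)
    (p : PrimeSpectrum R) : ∃ V : ValuationSubring p.asIdeal.ResidueField, V ∈ branches O p := by
  obtain ⟨hN, hF, h1, -, hf0, c, hc, hcj⟩ := range_facts (R := R) hdim hf p
  have hne : Ideal.jacobson (⊥ : Ideal (toRes (O := O) p).range) ≠ ⊤ := fun h => by
    rw [Ideal.jacobson_eq_top_iff] at h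
    exact bot_ne_top h
  obtain ⟨V, hle, hV⟩ := Ideal.image_subset_nonunits_valuationSubring _ hne
  refine ⟨V, ?_, fun x hx => hle hx⟩
  rintro rfl
  have h := hV ⟨c, hcj, rfl⟩
  rw [SetLike.mem_coe, ValuationSubring.mem_nonunits_iff] at h
  refine h.ne ?_
  have hc0 : (c : p.asIdeal.ResidueField) ≠ 0 := hc ▸ hf0
  rw [← ValuationSubring.valuation_unit (⊤ : ValuationSubring p.asIdeal.ResidueField)
    ⟨⟨(c : p.asIdeal.ResidueField), trivial⟩, ⟨(c : p.asIdeal.ResidueField)⁻¹, trivial⟩,
      Subtype.ext (mul_inv_cancel₀ hc0), Subtype.ext (inv_mul_cancel₀ hc0)⟩]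
  rfl

theorem valuation_toRes_lt_one (hdim : ringKrullDim O ≤ 1) (hf : f ∈ IsLocalRing.maximalIdeal O)
    (p : PrimeSpectrum R) {V : ValuationSubring p.asIdeal.ResidueField} (hV : V ∈ branches O p) :
    V.valuation (toRes (O := O) p f) < 1 := by
  obtain ⟨hN, hF, h1, -, hf0, c, hc, hcj⟩ := range_facts (R := R) hdim hf p
  exact hc ▸ valuation_lt_one_of_mem_jac h1 hV hcj

/-- Elements with poles on all branches have inverses whose large powers lie in the maximal ideal. -/
theorem exists_inv_pow_mem (hdim : ringKrullDim O ≤ 1) (hf : f ∈ IsLocalRing.maximalIdeal O) (y : R)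
    (hy0 : ∀ p : PrimeSpectrum R, y ∉ p.asIdeal)
    (hy : ∀ (p : PrimeSpectrum R), ∀ V ∈ branches O p, 1 < V.valuation (algebraMap R p.asIdeal.ResidueField y)) :
    ∃ N : ℕ, 1 ≤ N ∧ ∃ φ ∈ IsLocalRing.maximalIdeal O, algebraMap O R φ * y ^ N = 1 := by
  classical
  haveI := prime_finite (R := R) hdim hf
  haveI := Fintype.ofFinite (PrimeSpectrum R)
  have hu : IsUnit y := by
    by_contra hn
    obtain ⟨m, hm, hle⟩ := Ideal.exists_le_maximal _ (mt Ideal.span_singleton_eq_top.1 hn)
    exact hy0 ⟨m, hm.isPrime⟩ (hle (Ideal.mem_span_singleton_self y))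
  obtain ⟨x, hxy⟩ := hu.exists_right_inv
  -- large powers on each branch
  have hp : ∀ p : PrimeSpectrum R, ∃ N : ℕ, ∀ n, N ≤ n → ∃ a : O,
      algebraMap R p.asIdeal.ResidueField (x ^ n - algebraMap O R (f * a)) = 0 := by
    intro p
    obtain ⟨hN, hF, h1, hsl, hf0, c, hc, hcj⟩ := range_facts (R := R) hdim hf p
    have hz : ∀ V ∈ Over (toRes (O := O) p).range,
        V.valuation (algebraMap R p.asIdeal.ResidueField x) < 1 := fun V hV => by
      have h := congrArg (algebraMap R p.asIdeal.ResidueField) hxy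
      rw [map_mul, map_one] at h
      rw [eq_inv_of_mul_eq_one_right h]
      exact inv_lt_one (hy p V hV)
    obtain ⟨N, hN'⟩ := exists_pow_mem hz (c := c) (fun h0 => hf0 (by rw [← hc, h0]; rfl))
    refine ⟨N, fun n hn => ?_⟩
    obtain ⟨⟨_, a, rfl⟩, ha⟩ := hN' n hn
    refine ⟨a, ?_⟩
    rw [map_sub, map_pow, ha, hc, map_mul, map_mul]
    exact sub_self _
  choose N hN using hp
  let n := Finset.univ.sup N + 1
  choose a ha using fun p => hN p n ((Finset.le_sup (Finset.mem_univ p)).trans (Nat.le_succ _))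
  have key : ∀ q : PrimeSpectrum R, (∏ p, (x ^ n - algebraMap O R (f * a p))) ∈ q.asIdeal := fun q =>
    Ideal.mem_of_dvd q.asIdeal (Finset.dvd_prod_of_mem _ (Finset.mem_univ q))
      (Ideal.algebraMap_residueField_eq_zero.1 (ha q))
  have hnil : IsNilpotent (∏ p, (x ^ n - algebraMap O R (f * a p))) := by
    rw [← mem_nilradical, nilradical_eq_sInf, Submodule.mem_sInf]
    intro I hI
    exact key ⟨I, hI⟩
  obtain ⟨e, he⟩ := hnil
  -- a power of `x` is `f` times an element of `O[x]`
  let B := Algebra.adjoin O ({x} : Set R)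
  let P : Polynomial O := (∏ p, (Polynomial.X ^ n - Polynomial.C (f * a p))) ^ e
  have hPm : P.Monic := (Polynomial.monic_prod_of_monic _ _ fun p _ =>
    Polynomial.monic_X_pow_sub_C _ (Nat.succ_ne_zero _)).pow e
  have hPx : Polynomial.aeval x P = 0 := by
    simp only [P, map_pow, map_prod, map_sub, Polynomial.aeval_X, Polynomial.aeval_C]
    exact he
  obtain ⟨M, b, hb⟩ : ∃ M : ℕ, ∃ b ∈ B, x ^ M = algebraMap O R f * b := by
    suffices h : ∀ s : Finset (PrimeSpectrum R), ∃ b ∈ B,
        ∏ p ∈ s, (x ^ n - algebraMap O R (f * a p)) = x ^ (n * s.card) + algebraMap O R f * b by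
      obtain ⟨b, hb, hprod⟩ := h Finset.univ
      rw [hprod] at he
      set w := n * (Finset.univ : Finset (PrimeSpectrum R)).card
      obtain ⟨d, hd, hpow⟩ : ∃ d ∈ B, (x ^ w + algebraMap O R f * b) ^ e = x ^ (w * e) + algebraMap O R f * d := by
        clear he hPx hPm P
        induction e with
        | zero => exact ⟨0, B.zero_mem, by simp⟩
        | succ k ih =>
          obtain ⟨d, hd, hk⟩ := ih
          refine ⟨x ^ (w * k) * b + d * (x ^ w + algebraMap O R f * b), ?_, ?_⟩
          · have hxB : x ∈ B := Algebra.subset_adjoin rfl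
            exact B.add_mem (B.mul_mem (pow_mem hxB _) hb) (B.mul_mem hd
              (B.add_mem (pow_mem hxB _) (B.mul_mem (B.algebraMap_mem f) hb)))
          · rw [pow_succ, hk, Nat.mul_succ, pow_add]; ring
      rw [hpow] at he
      exact ⟨w * e, -d, B.neg_mem hd, by linear_combination he⟩
    intro s
    induction s using Finset.induction_on with
    | empty => exact ⟨0, B.zero_mem, by simp⟩
    | @insert p s hps ih =>
      obtain ⟨b, hb, hk⟩ := ih
      have hxB : x ∈ B := Algebra.subset_adjoin rfl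
      refine ⟨x ^ n * b - algebraMap O R (a p) * (x ^ (n * s.card) + algebraMap O R f * b), ?_, ?_⟩
      · exact B.sub_mem (B.mul_mem (pow_mem hxB _) hb) (B.mul_mem (B.algebraMap_mem _)
          (B.add_mem (pow_mem hxB _) (B.mul_mem (B.algebraMap_mem f) hb)))
      · rw [Finset.prod_insert hps, hk, Finset.card_insert_of_notMem hps, Nat.mul_succ, pow_add, map_mul]
        ring
  -- bounded denominators on `O[x]`
  obtain ⟨S, hS⟩ := IsIntegral.fg_adjoin_singleton (R := O) (x := x) ⟨P, hPm, hPx⟩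
  obtain ⟨L, hL⟩ : ∃ L : ℕ, ∀ w ∈ S, ∃ o : O, algebraMap O R f ^ L * w = algebraMap O R o := by
    choose l o ho using fun w : S => IsLocalization.Away.surj f w.1
    refine ⟨Finset.univ.sup l, fun w hw => ⟨f ^ (Finset.univ.sup l - l ⟨w, hw⟩) * o ⟨w, hw⟩, ?_⟩⟩
    rw [map_mul, map_pow, ← ho ⟨w, hw⟩, mul_comm w (algebraMap O R f ^ l ⟨w, hw⟩), ← mul_assoc, ← pow_add,
      Nat.sub_add_cancel (Finset.le_sup (Finset.mem_univ _))]
  have hLB : ∀ w ∈ B, ∃ o : O, algebraMap O R f ^ L * w = algebraMap O R o := by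
    intro w hw
    rw [← Subalgebra.mem_toSubmodule, ← hS] at hw
    induction hw using Submodule.span_induction with
    | mem w hw => exact hL w hw
    | zero => exact ⟨0, by simp⟩
    | add u v _ _ hu hv =>
      obtain ⟨o, ho⟩ := hu; obtain ⟨o', ho'⟩ := hv
      exact ⟨o + o', by rw [mul_add, ho, ho', map_add]⟩
    | smul r u _ hu =>
      obtain ⟨o, ho⟩ := hu
      exact ⟨r * o, by rw [Algebra.smul_def, mul_left_comm, ho, map_mul]⟩
  obtain ⟨o, ho⟩ := hLB (b ^ (L + 1) * x) (B.mul_mem (pow_mem hb.1 _) (Algebra.subset_adjoin rfl))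
  refine ⟨M * (L + 1) + 1, by omega, f * o, Ideal.mul_mem_right o _ hf, ?_⟩
  have hx1 : x ^ (M * (L + 1) + 1) = algebraMap O R (f * o) := by
    rw [pow_succ, pow_mul, hb.2, map_mul, ← ho]
    ring
  rw [← hx1, ← mul_pow, mul_comm, hxy, one_pow]

end

section Combine

variable {A : Type v} [CommRing A] {ι : Type v} {K : ι → Type u} [∀ i, Field (K i)]

/-- One element with poles at finitely many valuations. -/
theorem exists_pole (ψ : ∀ i, A →+* K i) (V : ∀ i, ValuationSubring (K i))
    [∀ i, IsDiscreteValuationRing (V i)] (h : ∀ i, ∃ a, ψ i a ∉ V i) (s : Finset ι) :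
    ∃ b : A, ∀ i ∈ s, 1 < (V i).valuation (ψ i b) := by
  classical
  induction s using Finset.induction_on with
  | empty => exact ⟨0, by simp⟩
  | @insert j s hj ih =>
    obtain ⟨b, hb⟩ := ih
    by_cases hbj : 1 < (V j).valuation (ψ j b)
    · exact ⟨b, fun i hi => (Finset.mem_insert.1 hi).elim (fun e => e ▸ hbj) (hb i)⟩
    obtain ⟨a, ha⟩ := h j
    have hex : ∀ i, ∃ N : ℕ, i ∈ s → ∀ n, N ≤ n → (V i).valuation ((ψ i b)⁻¹ ^ n * ψ i a) < 1 := fun i => by
      by_cases hi : i ∈ s
      · obtain ⟨N, hN⟩ := exists_pow_mul_lt_one (V i) (inv_lt_one (hb i hi)) (ψ i a)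
        exact ⟨N, fun _ => hN⟩
      · exact ⟨0, fun h => absurd h hi⟩
    choose N hN using hex
    set n := s.sup N + 1
    refine ⟨b ^ n + a, fun i hi => ?_⟩
    rw [map_add, map_pow]
    rcases Finset.mem_insert.1 hi with rfl | hi'
    · have h1 : (V i).valuation (ψ i b ^ n) ≤ 1 := by
        rw [map_pow]; exact pow_le_one' (not_lt.1 hbj) n
      rw [Valuation.map_add_eq_of_lt_right _ (lt_of_le_of_lt h1 (one_lt_iff.2 ha))]
      exact one_lt_iff.2 ha
    · have h1 := hN i hi' n ((Finset.le_sup hi').trans (Nat.le_succ _))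
      rw [map_mul, map_pow, map_inv₀, inv_pow, inv_mul_lt_one₀ (pow_pos (zero_lt_one.trans (hb i hi')) n),
        ← map_pow] at h1
      rw [Valuation.map_add_eq_of_lt_left _ h1, map_pow]
      exact one_lt_pow₀ (hb i hi') (Nat.succ_ne_zero _)

/-- A large power of an element with poles, times a non-zero element, plus a constant. -/
theorem exists_pow_pole (ψ : ∀ i, A →+* K i) (V : ∀ i, ValuationSubring (K i))
    [∀ i, IsDiscreteValuationRing (V i)] [Finite ι] {b c : A}
    (hb : ∀ i, 1 < (V i).valuation (ψ i b)) (hc : ∀ i, ψ i c ≠ 0) (a : A)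
    (ha : a = 0 ∨ a = 1) : ∃ N : ℕ, ∀ i, 1 < (V i).valuation (ψ i (a + c * b ^ N)) := by
  haveI := Fintype.ofFinite ι
  choose N hN using fun i => exists_pow_mul_lt_one (V i) (inv_lt_one (hb i)) (ψ i c)⁻¹
  refine ⟨Finset.univ.sup N, fun i => ?_⟩
  have h := hN i (Finset.univ.sup N) (Finset.le_sup (Finset.mem_univ i))
  rw [inv_pow, ← mul_inv, map_inv₀] at h
  have h2 : 1 < (V i).valuation (ψ i b ^ Finset.univ.sup N * ψ i c) := by
    refine (inv_lt_one_iff₀.1 h).resolve_left ?_
    exact not_le.2 (zero_lt_iff.2 ((map_ne_zero _).2 (mul_ne_zero (pow_ne_zero _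
      (fun h0 => by have := hb i; rw [h0, map_zero] at this; exact not_lt_zero this)) (hc i))))
  rw [map_add, map_mul, map_pow, mul_comm (ψ i c)]
  rcases ha with rfl | rfl
  · rwa [map_zero, zero_add]
  · rw [map_one, Valuation.map_add_eq_of_lt_right _ (by rwa [map_one])]
    exact h2

end Combine

end Groth.L22.DimOneAmple
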